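import Mathlib
import Groth.Agent.H61.Hilb.PatchSch
import Groth.Agent.H61.Aut.Twist
import Groth.Prelude.Def_ArtFun2

set_option linter.style.haveILetI false
set_option linter.unusedSectionVars false
set_option autoImplicit false

/-!
# The local Hilbert functor commutes with fibre products along a surjection
-/

open AlgebraicGeometry CategoryTheory CategoryTheory.Limits Opposite TopologicalSpace

namespace Groth.Agent.H61.Hilb

universe u

open ArtFun ArtFun.Art Groth.Agent.H61.AffThick Groth.Agent.H61.DefAlg Groth.Agent.H61.Aut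
  IsLocalRing

variable {k : Type u} [Field k] {Y : Scheme.{u}} (y : Y ⟶ specPt k)
variable {B A A' A'' : Art k k} (p' : B ⟶ A') (p'' : B ⟶ A'') (f' : A' ⟶ A) (f'' : A'' ⟶ A)
  (h : IsFibreProd p' p'' f' f'') (hf'' : Function.Surjective f'')

section Data

variable (U : (XA y B).Opens)

lemma le₁ : XAmap y (p' ≫ f') ⁻¹ᵁ U ≤ XAmap y f' ⁻¹ᵁ (XAmap y p' ⁻¹ᵁ U) := by
  rw [XAmap_comp]
  exact le_rfl

include h in
lemma le₂ : XAmap y (p' ≫ f') ⁻¹ᵁ U ≤ XAmap y f'' ⁻¹ᵁ (XAmap y p'' ⁻¹ᵁ U) := by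
  rw [h.w, XAmap_comp]
  exact le_rfl

/-- restriction `Γ(Y_{A'}, U') → Γ(Y_A, U₀)`. -/
noncomputable def tauP : Γ(XA y A', XAmap y p' ⁻¹ᵁ U) →+* Γ(XA y A, XAmap y (p' ≫ f') ⁻¹ᵁ U) :=
  ((XAmap y f').appLE (XAmap y p' ⁻¹ᵁ U) (XAmap y (p' ≫ f') ⁻¹ᵁ U) (le₁ y p' f' U)).hom

/-- restriction `Γ(Y_{A''}, U'') → Γ(Y_A, U₀)`. -/
noncomputable def tauQ : Γ(XA y A'', XAmap y p'' ⁻¹ᵁ U) →+* Γ(XA y A, XAmap y (p' ≫ f') ⁻¹ᵁ U) :=
  ((XAmap y f'').appLE (XAmap y p'' ⁻¹ᵁ U) (XAmap y (p' ≫ f') ⁻¹ᵁ U) (le₂ y p' p'' f' f'' h U)).hom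

lemma tauP_comp :
    (tauP y p' f' U).comp ((XAmap y p').app U).hom = ((XAmap y (p' ≫ f')).app U).hom := by
  unfold tauP
  rw [← CommRingCat.hom_comp, Scheme.Hom.app_eq_appLE, Scheme.Hom.appLE_comp_appLE,
    Scheme.Hom.app_eq_appLE]
  congr 1
  exact appLE_congr_hom (XAmap_comp y p' f').symm _ _

lemma tauQ_comp :
    (tauQ y p' p'' f' f'' h U).comp ((XAmap y p'').app U).hom =
      ((XAmap y (p' ≫ f')).app U).hom := by
  unfold tauQ
  rw [← CommRingCat.hom_comp, Scheme.Hom.app_eq_appLE, Scheme.Hom.appLE_comp_appLE,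
    Scheme.Hom.app_eq_appLE]
  congr 1
  refine appLE_congr_hom ?_ _ _
  rw [h.w, XAmap_comp]

end Data

section Hyps

include h in
lemma hw_ring : (f'.toAlgHom.toRingHom).comp p'.toAlgHom.toRingHom =
    (f''.toAlgHom.toRingHom).comp p''.toAlgHom.toRingHom :=
  congrArg (fun m : B ⟶ A => m.toAlgHom.toRingHom) h.w

include h in
lemma hfp_ring (s : A') (q : A'') (e : f'.toAlgHom.toRingHom s = f''.toAlgHom.toRingHom q) :
    ∃! c : B, p'.toAlgHom.toRingHom c = s ∧ p''.toAlgHom.toRingHom c = q := by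
  obtain ⟨c, hc1, hc2⟩ := h.surj s q e
  refine ⟨c, ⟨hc1, hc2⟩, ?_⟩
  rintro c' ⟨hc1', hc2'⟩
  exact h.inj c' c (hc1'.trans hc1.symm) (hc2'.trans hc2.symm)

variable (U : (XA y B).Opens)

lemma cP_ring : ((XAmap y p').app U).hom.comp (strOver (XApr y B) U) =
    (strOver (XApr y A') (XAmap y p' ⁻¹ᵁ U)).comp p'.toAlgHom.toRingHom := by
  ext a
  exact app_strOver p' (XApr y B) (XApr y A') (XAmap y p') (isPullback_XAmap y p') U a

lemma dP_ring : (tauP y p' f' U).comp (strOver (XApr y A') (XAmap y p' ⁻¹ᵁ U)) =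
    (strOver (XApr y A) (XAmap y (p' ≫ f') ⁻¹ᵁ U)).comp f'.toAlgHom.toRingHom := by
  ext a
  exact appLE_strOver f' (XApr y A') (XApr y A) (XAmap y f') (isPullback_XAmap y f') _ _ _ a

lemma dQ_ring : (tauQ y p' p'' f' f'' h U).comp (strOver (XApr y A'') (XAmap y p'' ⁻¹ᵁ U)) =
    (strOver (XApr y A) (XAmap y (p' ≫ f') ⁻¹ᵁ U)).comp f''.toAlgHom.toRingHom := by
  ext a
  exact appLE_strOver f'' (XApr y A'') (XApr y A) (XAmap y f'') (isPullback_XAmap y f'') _ _ _ a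

lemma poP_ring (hU : IsAffineOpen U) :
    IsPushout (CommRingCat.ofHom p'.toAlgHom.toRingHom) (CommRingCat.ofHom (strOver (XApr y B) U))
      (CommRingCat.ofHom (strOver (XApr y A') (XAmap y p' ⁻¹ᵁ U)))
      (CommRingCat.ofHom ((XAmap y p').app U).hom) :=
  isPushout_sections p' (XApr y B) (XApr y A') (XAmap y p') (isPullback_XAmap y p') hU

lemma poZ_ring (hU : IsAffineOpen U) :
    IsPushout (CommRingCat.ofHom ((f'.toAlgHom.toRingHom).comp p'.toAlgHom.toRingHom))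
      (CommRingCat.ofHom (strOver (XApr y B) U))
      (CommRingCat.ofHom (strOver (XApr y A) (XAmap y (p' ≫ f') ⁻¹ᵁ U)))
      (CommRingCat.ofHom ((tauP y p' f' U).comp ((XAmap y p').app U).hom)) := by
  rw [tauP_comp]
  exact isPushout_sections (p' ≫ f') (XApr y B) (XApr y A) (XAmap y (p' ≫ f'))
    (isPullback_XAmap y (p' ≫ f')) hU

end Hyps

section Main

lemma isAffineHom_XAmap {A₁ A₂ : Art k k} (g : A₁ ⟶ A₂) : IsAffineHom (XAmap y g) :=
  isAffineHom_of_isPullback g (XApr y A₁) (XApr y A₂) (XAmap y g) (isPullback_XAmap y g)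

include h hf'' in
/-- **uniqueness of the patched ideal.** -/
theorem le_of_comap_eq (I₁ I₂ : (XA y B).IdealSheafData) (hflat : FlatOver Y y B I₁)
    (e' : I₁.comap (XAmap y p') = I₂.comap (XAmap y p'))
    (e'' : I₁.comap (XAmap y p'') = I₂.comap (XAmap y p'')) : I₂ ≤ I₁ := by
  intro U
  haveI := isAffineHom_XAmap y p'
  haveI := isAffineHom_XAmap y p''
  refine Patch.le_of_map_le' p'.toAlgHom.toRingHom p''.toAlgHom.toRingHom
    f'.toAlgHom.toRingHom f''.toAlgHom.toRingHom (hw_ring p' p'' f' f'' h) hf''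
    (hfp_ring p' p'' f' f'' h)
    (strOver (XApr y B) U.1) (strOver (XApr y A') (XAmap y p' ⁻¹ᵁ U.1))
    (strOver (XApr y A'') (XAmap y p'' ⁻¹ᵁ U.1))
    ((XAmap y p').app U.1).hom ((XAmap y p'').app U.1).hom
    (cP_ring y p' U.1) (cP_ring y p'' U.1) (poP_ring y p' U.1 U.2) (poP_ring y p'' U.1 U.2)
    (I₁.ideal U) (I₂.ideal U) ?_ ?_ ?_
  · exact quot_flat (xi y B) I₁ hflat U
  · rw [← ideal_comap_app' (XAmap y p') I₁ U, ← ideal_comap_app' (XAmap y p') I₂ U, e']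
  · rw [← ideal_comap_app' (XAmap y p'') I₁ U, ← ideal_comap_app' (XAmap y p'') I₂ U, e'']

/-- the patched ideal sheaf on `Y ×_k Spec B`. -/
noncomputable def glueIdeal (I' : (XA y A').IdealSheafData) (I'' : (XA y A'').IdealSheafData) :
    (XA y B).IdealSheafData :=
  (I'.subschemeι ≫ XAmap y p').ker ⊓ (I''.subschemeι ≫ XAmap y p'').ker

lemma glueIdeal_ideal (I' : (XA y A').IdealSheafData) (I'' : (XA y A'').IdealSheafData)
    (U : (XA y B).affineOpens) :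
    haveI := isAffineHom_XAmap y p'
    haveI := isAffineHom_XAmap y p''
    (glueIdeal y p' p'' I' I'').ideal U =
      (I'.ideal ⟨XAmap y p' ⁻¹ᵁ U.1, U.2.preimage (XAmap y p')⟩).comap ((XAmap y p').app U.1).hom ⊓
      (I''.ideal ⟨XAmap y p'' ⁻¹ᵁ U.1, U.2.preimage (XAmap y p'')⟩).comap
        ((XAmap y p'').app U.1).hom := by
  haveI := isAffineHom_XAmap y p'
  haveI := isAffineHom_XAmap y p''
  unfold glueIdeal
  rw [Scheme.IdealSheafData.ideal_inf, Pi.inf_apply, ideal_ker_comp, ideal_ker_comp]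

include h hf'' in
theorem glueIdeal_spec (I' : (XA y A').IdealSheafData) (I'' : (XA y A'').IdealSheafData)
    (hfl' : FlatOver Y y A' I') (hfl'' : FlatOver Y y A'' I'')
    (hc : I'.comap (XAmap y f') = I''.comap (XAmap y f'')) :
    (glueIdeal y p' p'' I' I'').comap (XAmap y p') = I' ∧
      (glueIdeal y p' p'' I' I'').comap (XAmap y p'') = I'' ∧
      FlatOver Y y B (glueIdeal y p' p'' I' I'') := by
  haveI := isAffineHom_XAmap y p'
  haveI := isAffineHom_XAmap y p''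
  haveI := isAffineHom_XAmap y f'
  haveI := isAffineHom_XAmap y f''
  haveI := isAffineHom_XAmap y (p' ≫ f')
  have key : ∀ U : (XA y B).affineOpens,
      ((glueIdeal y p' p'' I' I'').ideal U).map ((XAmap y p').app U.1).hom =
        I'.ideal ⟨XAmap y p' ⁻¹ᵁ U.1, U.2.preimage (XAmap y p')⟩ ∧
      ((glueIdeal y p' p'' I' I'').ideal U).map ((XAmap y p'').app U.1).hom =
        I''.ideal ⟨XAmap y p'' ⁻¹ᵁ U.1, U.2.preimage (XAmap y p'')⟩ ∧
      (letI := (strOver (XApr y B) U.1).toAlgebra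
       Module.Flat B (Γ(XA y B, U.1) ⧸ (glueIdeal y p' p'' I' I'').ideal U)) := by
    intro U
    rw [glueIdeal_ideal]
    have hW : IsAffineOpen (XAmap y (p' ≫ f') ⁻¹ᵁ U.1) := U.2.preimage _
    refine Patch.glue_spec p'.toAlgHom.toRingHom p''.toAlgHom.toRingHom
      f'.toAlgHom.toRingHom f''.toAlgHom.toRingHom (hw_ring p' p'' f' f'' h) hf''
      (hfp_ring p' p'' f' f'' h)
      (strOver (XApr y B) U.1) (strOver (XApr y A') (XAmap y p' ⁻¹ᵁ U.1))
      (strOver (XApr y A'') (XAmap y p'' ⁻¹ᵁ U.1))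
      (strOver (XApr y A) (XAmap y (p' ≫ f') ⁻¹ᵁ U.1))
      ((XAmap y p').app U.1).hom ((XAmap y p'').app U.1).hom
      (tauP y p' f' U.1) (tauQ y p' p'' f' f'' h U.1)
      (cP_ring y p' U.1) (cP_ring y p'' U.1) (dP_ring y p' f' U.1) (dQ_ring y p' p'' f' f'' h U.1)
      ((tauP_comp y p' f' U.1).trans (tauQ_comp y p' p'' f' f'' h U.1).symm)
      (poP_ring y p' U.1 U.2) (poP_ring y p'' U.1 U.2) (poZ_ring y p' f' U.1 U.2)
      _ _ ?_ ?_ ?_
    · have h1 := Groth.Agent.H19.ComapAff.ideal_comap_appLE (XAmap y f') I'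
        ⟨XAmap y p' ⁻¹ᵁ U.1, U.2.preimage (XAmap y p')⟩ ⟨XAmap y (p' ≫ f') ⁻¹ᵁ U.1, hW⟩
        (le₁ y p' f' U.1)
      have h2 := Groth.Agent.H19.ComapAff.ideal_comap_appLE (XAmap y f'') I''
        ⟨XAmap y p'' ⁻¹ᵁ U.1, U.2.preimage (XAmap y p'')⟩ ⟨XAmap y (p' ≫ f') ⁻¹ᵁ U.1, hW⟩
        (le₂ y p' p'' f' f'' h U.1)
      rw [hc] at h1
      exact h1.symm.trans h2
    · exact quot_flat (xi y A') I' hfl' ⟨XAmap y p' ⁻¹ᵁ U.1, U.2.preimage (XAmap y p')⟩
    · exact quot_flat (xi y A'') I'' hfl'' ⟨XAmap y p'' ⁻¹ᵁ U.1, U.2.preimage (XAmap y p'')⟩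
  refine ⟨?_, ?_, ?_⟩
  · refine Scheme.IdealSheafData.ext_of_iSup_eq_top
      (fun U : (XA y B).affineOpens =>
        (⟨XAmap y p' ⁻¹ᵁ U.1, U.2.preimage (XAmap y p')⟩ : (XA y A').affineOpens))
      (iSup_preimage_affineOpens (XAmap y p')) ?_
    intro U
    rw [ideal_comap_app' (XAmap y p') _ U]
    exact (key U).1
  · refine Scheme.IdealSheafData.ext_of_iSup_eq_top
      (fun U : (XA y B).affineOpens =>
        (⟨XAmap y p'' ⁻¹ᵁ U.1, U.2.preimage (XAmap y p'')⟩ : (XA y A'').affineOpens))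
      (iSup_preimage_affineOpens (XAmap y p'')) ?_
    intro U
    rw [ideal_comap_app' (XAmap y p'') _ U]
    exact (key U).2.1
  · exact flat_of_quot_flat (xi y B) _ (fun U => (key U).2.2)

end Main

end Groth.Agent.H61.Hilb
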