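import Mathlib
import Groth.Agent.H61.Hilb.Patch

set_option linter.style.haveILetI false
set_option linter.unusedSectionVars false
set_option autoImplicit false

/-!
# Schlessinger's conditions for the local Hilbert functor
-/

open AlgebraicGeometry CategoryTheory CategoryTheory.Limits Opposite TopologicalSpace

namespace Groth.Agent.H61.Hilb

universe u

open ArtFun ArtFun.Art Groth.Agent.H61.AffThick Groth.Agent.H61.DefAlg Groth.Agent.H61.Aut
  IsLocalRing

variable {k : Type u} [Field k] {Y : Scheme.{u}} (y : Y ⟶ specPt k) (I₀ : Y.IdealSheafData)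

section Cmp

variable {B A A' A'' : Art k k} {p' : B ⟶ A'} {p'' : B ⟶ A''} {f' : A' ⟶ A} {f'' : A'' ⟶ A}
  (h : IsFibreProd p' p'' f' f'') (hf'' : Function.Surjective f'')

include hf'' in
/-- **the local Hilbert functor commutes with fibre products along a surjection.** -/
theorem cmp_bijective : Function.Bijective (cmp (localHilb Y y I₀) h) := by
  constructor
  · intro I₁ I₂ heq
    have h1 : (localHilb Y y I₀).map p' I₁ = (localHilb Y y I₀).map p' I₂ :=
      congrArg (fun z : FibProd (localHilb Y y I₀) f' f'' => z.1.1) heq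
    have h2 : (localHilb Y y I₀).map p'' I₁ = (localHilb Y y I₀).map p'' I₂ :=
      congrArg (fun z : FibProd (localHilb Y y I₀) f' f'' => z.1.2) heq
    have e' : I₁.1.comap (XAmap y p') = I₂.1.comap (XAmap y p') := congrArg Subtype.val h1
    have e'' : I₁.1.comap (XAmap y p'') = I₂.1.comap (XAmap y p'') := congrArg Subtype.val h2
    apply Subtype.ext
    exact le_antisymm (le_of_comap_eq y p' p'' f' f'' h hf'' I₂.1 I₁.1 I₂.2.1 e'.symm e''.symm)
      (le_of_comap_eq y p' p'' f' f'' h hf'' I₁.1 I₂.1 I₁.2.1 e' e'')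
  · rintro ⟨⟨I', I''⟩, hz⟩
    have hc : I'.1.comap (XAmap y f') = I''.1.comap (XAmap y f'') := congrArg Subtype.val hz
    obtain ⟨s1, s2, s3⟩ := glueIdeal_spec y p' p'' f' f'' h hf'' I'.1 I''.1 I'.2.1 I''.2.1 hc
    have hfib : (glueIdeal y p' p'' I'.1 I''.1).comap (XAincl y B) = I₀ := by
      rw [← XAincl_XAmap y p', Scheme.IdealSheafData.comap_comp, s1, I'.2.2]
    refine ⟨⟨glueIdeal y p' p'' I'.1 I''.1, s3, hfib⟩, ?_⟩
    apply FibProd.ext
    · exact Subtype.ext s1
    · exact Subtype.ext s2

end Cmp

section H0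

lemma ofBase_base : ofBase (base k k) = 𝟙 _ := (eq_toBase _).trans (eq_toBase _).symm

instance isIso_fst_base : IsIso (pullback.fst y (specOver (base k k))) := by
  haveI : IsIso (specOver (base k k)) := by
    change IsIso (specMap (ofBase (base k k)))
    rw [ofBase_base, specMap_id]
    infer_instance
  infer_instance

lemma fst_comp_XAincl_base :
    pullback.fst y (specOver (base k k)) ≫ XAincl y (base k k) = 𝟙 _ := by
  rw [← cancel_mono (pullback.fst y (specOver (base k k))), Category.assoc, XAincl_fst,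
    Category.comp_id, Category.id_comp]

theorem h0 : H0 (localHilb Y y I₀) := by
  constructor
  · refine ⟨⟨I₀.comap (pullback.fst y (specOver (base k k))), ?_, ?_⟩⟩
    · exact Groth.Agent.H22.FibreRank.flat_of_field (K := k) _
    · rw [← Scheme.IdealSheafData.comap_comp, XAincl_fst, Scheme.IdealSheafData.comap_id]
  · constructor
    intro I₁ I₂
    apply Subtype.ext
    have e : ∀ I : (XA y (base k k)).IdealSheafData, I.comap (XAincl y (base k k)) = I₀ →
        I = I₀.comap (pullback.fst y (specOver (base k k))) := by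
      intro I hI
      rw [← hI, ← Scheme.IdealSheafData.comap_comp, fst_comp_XAincl_base,
        Scheme.IdealSheafData.comap_id]
    rw [e I₁.1 I₁.2.2, e I₂.1 I₂.2.2]

end H0

/-- **Schlessinger's conditions for the local Hilbert functor.** -/
theorem localHilb_h0_heps_hbar_hsq :
    H0 (localHilb Y y I₀) ∧ Heps (localHilb Y y I₀) ∧ Hbar (localHilb Y y I₀) ∧
      HSq (localHilb Y y I₀) := by
  refine ⟨h0 y I₀, ?_, ?_, ?_⟩
  · intro B A' p' p'' h
    exact cmp_bijective y I₀ h (dual k k).res_surjective
  · intro B A A' A'' p' p'' f' f'' h hs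
    exact (cmp_bijective y I₀ h hs.1).2
  · intro B A A' p₁ p₂ f h hs
    exact cmp_bijective y I₀ h hs.1

end Groth.Agent.H61.Hilb
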