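import Mathlib
import Groth.Agent.H61.Hilb.NormalHom
import Groth.Agent.H61.Hilb.MulBy

set_option linter.style.haveILetI false
set_option linter.unusedSectionVars false
set_option autoImplicit false

/-!
# Linearity of `H⁰(Z, N_{Z/X}) ≃ Hom(I, O_X/I)`
-/

open AlgebraicGeometry CategoryTheory CategoryTheory.Limits Opposite TopologicalSpace

attribute [local instance] HasDerivedCategory.standard

namespace Groth.Agent.H61.Hilb.NormalHom

universe u

open Groth.Agent.H18 Groth.Agent.H61.Hilb.MulBy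

section Sec

variable {X : Scheme.{u}}

lemma secEquiv_symm_apply (M : X.Modules) (f : Coh.structureModule X ⟶ M) :
    (secEquiv M).symm f = f.app ⊤ (1 : Γ(X, (⊤ : X.Opens))) := rfl

lemma secEquiv_add (M : X.Modules) (σ τ : Γ(M, (⊤ : X.Opens))) :
    secEquiv M (σ + τ) = secEquiv M σ + secEquiv M τ := by
  apply (secEquiv M).symm.injective
  rw [Equiv.symm_apply_apply, secEquiv_symm_apply]
  change _ = (secEquiv M σ).app ⊤ (1 : Γ(X, (⊤ : X.Opens))) +
    (secEquiv M τ).app ⊤ (1 : Γ(X, (⊤ : X.Opens)))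
  rw [← secEquiv_symm_apply, ← secEquiv_symm_apply, Equiv.symm_apply_apply,
    Equiv.symm_apply_apply]

lemma secEquiv_smul (M : X.Modules) (s : Γ(X, (⊤ : X.Opens))) (σ : Γ(M, (⊤ : X.Opens))) :
    secEquiv M (s • σ) = secEquiv M σ ≫ mulBy M s := by
  apply (secEquiv M).symm.injective
  rw [Equiv.symm_apply_apply, secEquiv_symm_apply]
  change _ = (mulBy M s).app ⊤ ((secEquiv M σ).app ⊤ (1 : Γ(X, (⊤ : X.Opens))))
  rw [← secEquiv_symm_apply, Equiv.symm_apply_apply, mulBy_app]
  congr 1
  have : (homOfLE (le_top : (⊤ : X.Opens) ≤ ⊤)).op = 𝟙 _ := rfl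
  rw [this, X.presheaf.map_id]
  rfl

end Sec

section Dual

variable {X : Scheme.{u}} (C : X.Modules) [DCoh.HasSheafHom C]

lemma dualEquiv_apply (f : Coh.structureModule X ⟶ (DCoh.sheafHom C).obj (Coh.structureModule X)) :
    dualEquiv C f = (tensorUnitIso C).inv ≫
      ((DCoh.sheafHomAdj C).homEquiv (Coh.structureModule X) (Coh.structureModule X)).symm f := by
  change (tensorUnitIso C).inv ≫ _ ≫ 𝟙 _ = _
  rw [Category.comp_id]

lemma dualEquiv_add
    (f g : Coh.structureModule X ⟶ (DCoh.sheafHom C).obj (Coh.structureModule X)) :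
    dualEquiv C (f + g) = dualEquiv C f + dualEquiv C g := by
  rw [dualEquiv_apply, dualEquiv_apply, dualEquiv_apply, Adjunction.homAddEquiv_symm_add,
    Preadditive.comp_add]

lemma dualEquiv_comp_mulBy
    (f : Coh.structureModule X ⟶ (DCoh.sheafHom C).obj (Coh.structureModule X))
    (s : Coh.Γtop X) :
    dualEquiv C (f ≫ mulBy _ s) = dualEquiv C f ≫ mulBy _ s := by
  rw [dualEquiv_apply, dualEquiv_apply, ← mulBy_comm f s,
    Adjunction.homEquiv_naturality_left_symm, tensorBi_map_mulBy, Category.assoc,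
    ← mulBy_comm _ s, ← Category.assoc, ← mulBy_comm _ s, Category.assoc]

end Dual

section Push

variable {X Z : Scheme.{u}} (i : Z ⟶ X) [IsClosedImmersion i]

/-- `conormalHomEquiv` with the conormal sheaf unfolded. -/
noncomputable def pullHomEquiv :
    ((Scheme.Modules.pullback i).obj (ClSub.idealMod i.ker) ⟶ Coh.structureModule Z) ≃
      (ClSub.idealMod i.ker ⟶ ClSub.quotMod i.ker) :=
  ((Scheme.Modules.pullbackPushforwardAdjunction i).homEquiv (ClSub.idealMod i.ker)
    (Coh.structureModule Z)).trans (Iso.homCongr (Iso.refl _) (pushIso i).symm)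

lemma conormalHomEquiv_eq (g : Omega.conormal i ⟶ Coh.structureModule Z) :
    conormalHomEquiv i g = pullHomEquiv i g := rfl

lemma pullHomEquiv_apply
    (g : (Scheme.Modules.pullback i).obj (ClSub.idealMod i.ker) ⟶ Coh.structureModule Z) :
    pullHomEquiv i g =
      (Scheme.Modules.pullbackPushforwardAdjunction i).homEquiv (ClSub.idealMod i.ker)
        (Coh.structureModule Z) g ≫ (pushIso i).inv := by
  unfold pullHomEquiv
  rw [Equiv.trans_apply, Iso.homCongr_apply, Iso.refl_inv, Category.id_comp]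
  rfl

lemma pullHomEquiv_add
    (g g' : (Scheme.Modules.pullback i).obj (ClSub.idealMod i.ker) ⟶ Coh.structureModule Z) :
    pullHomEquiv i (g + g') = pullHomEquiv i g + pullHomEquiv i g' := by
  rw [pullHomEquiv_apply, pullHomEquiv_apply, pullHomEquiv_apply,
    Adjunction.homAddEquiv_add, Preadditive.add_comp]

lemma pullHomEquiv_comp_mulBy
    (g : (Scheme.Modules.pullback i).obj (ClSub.idealMod i.ker) ⟶ Coh.structureModule Z)
    (s : Γ(X, (⊤ : X.Opens))) :
    pullHomEquiv i (g ≫ mulBy _ ((i.appTop).hom s)) = pullHomEquiv i g ≫ mulBy _ s := by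
  rw [pullHomEquiv_apply, pullHomEquiv_apply, Adjunction.homEquiv_naturality_right,
    pushforward_map_mulBy, Category.assoc, Category.assoc, mulBy_comm]

end Push

section Normal

variable {k : Type u} [Field k] {X Z : Scheme.{u}} (x : X ⟶ Spec (CommRingCat.of k))
  [Z.Over (Spec (CommRingCat.of k))] (i : Z ⟶ X) [IsClosedImmersion i]
  (hZ : Z ↘ Spec (CommRingCat.of k) = i ≫ x) [DCoh.HasSheafHom (Omega.conormal i)]

lemma normalEquiv_apply
    (h : Coh.HH Z ((DCoh.sheafHom (Omega.conormal i)).obj (Coh.structureModule Z)) 0) :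
    normalEquiv i h = pullHomEquiv i (dualEquiv (Omega.conormal i)
      (secEquiv _ (HH0.equiv _ h))) := rfl

theorem normalEquiv_add
    (h h' : Coh.HH Z ((DCoh.sheafHom (Omega.conormal i)).obj (Coh.structureModule Z)) 0) :
    normalEquiv i (h + h') = normalEquiv i h + normalEquiv i h' := by
  rw [normalEquiv_apply, normalEquiv_apply, normalEquiv_apply]
  let M := (DCoh.sheafHom (Omega.conormal i)).obj (Coh.structureModule Z)
  have e1 : (HH0.equiv M (h + h') : Γ(M, (⊤ : Z.Opens))) =
      (HH0.equiv M h : Γ(M, (⊤ : Z.Opens))) + (HH0.equiv M h' : Γ(M, (⊤ : Z.Opens))) :=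
    map_add (HH0.equiv M) h h'
  have e2 := secEquiv_add M (HH0.equiv M h) (HH0.equiv M h')
  have e3 := dualEquiv_add (Omega.conormal i) (secEquiv M (HH0.equiv M h))
    (secEquiv M (HH0.equiv M h'))
  have e4 := pullHomEquiv_add i (dualEquiv (Omega.conormal i) (secEquiv M (HH0.equiv M h)))
    (dualEquiv (Omega.conormal i) (secEquiv M (HH0.equiv M h')))
  refine Eq.trans ?_ e4
  refine congrArg (pullHomEquiv i) ?_
  refine Eq.trans ?_ e3
  refine congrArg (dualEquiv (Omega.conormal i)) ?_
  refine Eq.trans ?_ e2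
  exact congrArg (secEquiv M) e1

include hZ in
lemma toGlobal_eq (a : k) :
    Coh.toGlobal (Z ↘ Spec (CommRingCat.of k)) a = (i.appTop).hom (Coh.toGlobal x a) := by
  rw [hZ]
  unfold Coh.toGlobal
  rw [Scheme.Hom.comp_appTop]
  rfl

include hZ in
theorem normalEquiv_smul (a : k)
    (h : Coh.HH Z ((DCoh.sheafHom (Omega.conormal i)).obj (Coh.structureModule Z)) 0) :
    normalEquiv i (a • h) = normalEquiv i h ≫ mulBy _ (Coh.toGlobal x a) := by
  rw [normalEquiv_apply, normalEquiv_apply]
  let M := (DCoh.sheafHom (Omega.conormal i)).obj (Coh.structureModule Z)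
  let s := Coh.toGlobal (Z ↘ Spec (CommRingCat.of k)) a
  have e1 : (HH0.equiv M (a • h) : Γ(M, (⊤ : Z.Opens))) =
      (s : Γ(Z, (⊤ : Z.Opens))) • (HH0.equiv M h : Γ(M, (⊤ : Z.Opens))) :=
    HH0.equiv_smul M s h
  have e2 := secEquiv_smul M s (HH0.equiv M h)
  have e3 := dualEquiv_comp_mulBy (Omega.conormal i) (secEquiv M (HH0.equiv M h)) s
  have e4 := pullHomEquiv_comp_mulBy i (dualEquiv (Omega.conormal i)
    (secEquiv M (HH0.equiv M h))) (Coh.toGlobal x a)
  have e5 : s = (i.appTop).hom (Coh.toGlobal x a) := toGlobal_eq x i hZ a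
  refine Eq.trans ?_ e4
  refine congrArg (pullHomEquiv i) ?_
  refine Eq.trans ?_ ((congrArg (fun r => dualEquiv (Omega.conormal i)
    (secEquiv M (HH0.equiv M h)) ≫ mulBy (Coh.structureModule Z) r) e5))
  refine Eq.trans ?_ e3
  refine congrArg (dualEquiv (Omega.conormal i)) ?_
  refine Eq.trans ?_ e2
  exact congrArg (secEquiv M) e1

end Normal

end Groth.Agent.H61.Hilb.NormalHom
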