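import Mathlib
import Groth.Agent.H61.Hilb.Tangent
import Groth.Agent.H61.Hilb.Inj
import Groth.Agent.H61.Hilb.LeftExact

set_option linter.style.haveILetI false
set_option linter.unusedSectionVars false
set_option autoImplicit false

/-!
# The tangent space of the local Hilbert functor is `Hom(I₀, O/I₀)` (as a set)
-/

open AlgebraicGeometry CategoryTheory CategoryTheory.Limits Opposite TopologicalSpace

namespace Groth.Agent.H61.Hilb

universe u

open ArtFun ArtFun.Art Groth.Agent.H61.AffThick Groth.Agent.H61.DefAlg Groth.Agent.H61.Aut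
  IsLocalRing

variable {k : Type u} [Field k] {Y : Scheme.{u}} (y : Y ⟶ specPt k) (I₀ : Y.IdealSheafData)

/-- the translate of a first-order deformation `v₀` by `φ`. -/
noncomputable def thetaAt (v₀ : (localHilb Y y I₀).obj (dual k k))
    (φ : ClSub.idealMod I₀ ⟶ ClSub.quotMod I₀) : (localHilb Y y I₀).obj (dual k k) :=
  ⟨translate (xi y (dual k k)) v₀.1 I₀ φ epsD v₀.2.2,
    flat_translate (xi y (dual k k)) v₀.1 I₀ φ v₀.2.2 v₀.2.1,
    comap_translate (xi y (dual k k)) v₀.1 I₀ φ epsD v₀.2.2 epsD_mem⟩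

lemma thetaAt_val (v₀ : (localHilb Y y I₀).obj (dual k k))
    (φ : ClSub.idealMod I₀ ⟶ ClSub.quotMod I₀) :
    (thetaAt y I₀ v₀ φ).1 = translate (xi y (dual k k)) v₀.1 I₀ φ epsD v₀.2.2 := rfl

theorem thetaAt_bijective (v₀ : (localHilb Y y I₀).obj (dual k k)) :
    Function.Bijective (thetaAt y I₀ v₀) := by
  constructor
  · intro φ ψ h
    exact translate_injective (xi y (dual k k)) v₀.1 I₀ v₀.2.1 v₀.2.2 φ ψ
      (congrArg Subtype.val h)
  · intro v
    obtain ⟨φ, hφ⟩ := exists_translate_eq (xi y (dual k k)) v₀.1 v.1 I₀ v₀.2.1 v.2.1 v₀.2.2 v.2.2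
    exact ⟨φ, Subtype.ext hφ⟩

/-- the trivial deformation over `A`. -/
noncomputable def trivAt (A : Art k k) : (localHilb Y y I₀).obj A :=
  (localHilb Y y I₀).map (ofBase A) (h0 y I₀).1.some

/-- `Hom(I₀, O/I₀) ≃ F(k[ε])`, based at the trivial deformation. -/
noncomputable def thetaEquiv :
    (ClSub.idealMod I₀ ⟶ ClSub.quotMod I₀) ≃ (localHilb Y y I₀).obj (dual k k) :=
  Equiv.ofBijective (thetaAt y I₀ (trivAt y I₀ (dual k k)))
    (thetaAt_bijective y I₀ (trivAt y I₀ (dual k k)))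

end Groth.Agent.H61.Hilb
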