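import Mathlib
import Groth.Agent.H61.Hilb.Translate
import Groth.Agent.H61.Hilb.SqZeroAlg

set_option linter.style.haveILetI false
set_option linter.unusedSectionVars false
set_option autoImplicit false

/-!
# Flatness of translates over a base with `𝔪² = 0`
-/

open AlgebraicGeometry CategoryTheory CategoryTheory.Limits Opposite TopologicalSpace

namespace Groth.Agent.H61.Hilb

universe u

open ArtFun ArtFun.Art Groth.Agent.H61.AffThick Groth.Agent.H61.DefAlg Groth.Agent.H61.Aut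
  IsLocalRing

variable {Λ : Type u} {k : Type u} [CommRing Λ] [Field k] [Algebra Λ k]
variable {X : Scheme.{u}} {x : X ⟶ specPt k} {B : Art Λ k} (ξ : DefSch X x B)
variable (I₁ : ξ.total.IdealSheafData) (I₀ : X.IdealSheafData)
  (φ : ClSub.idealMod I₀ ⟶ ClSub.quotMod I₀) (t : B) (h₁ : I₁.comap ξ.i = I₀)
  (hf₁ : Flat (I₁.subschemeι ≫ ξ.f))

attribute [local instance] algSec

include hf₁ in
/-- **flatness of the translate** over a base with `𝔪² = 0`. -/
theorem flat_translate_sq (hsq : maximalIdeal B * maximalIdeal B = ⊥)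
    (ht : t ∈ maximalIdeal B) :
    Flat ((translate ξ I₁ I₀ φ t h₁).subschemeι ≫ ξ.f) := by
  apply flat_of_quot_flat
  intro c
  have hW := isAffineOpen_preimage ξ c
  haveI : Module.Flat B (Γ(ξ.total, c.1) ⧸ I₁.ideal c) := quot_flat ξ I₁ hf₁ c
  haveI : Module.Flat B Γ(ξ.total, c.1) := str_flat ξ c.2
  refine SqZeroAlg.flat_quot_of_translate hsq (ξ.i.app c.1).hom (ker_aug ξ c.2) (I₁.ideal c) _
    t ht ?_ ?_
  · rintro f₂ ⟨m, f₁, r, h1, h2, h3, h4⟩
    refine ⟨f₁, h1, r, h3, ?_⟩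
    intro h0
    have hm : m = 0 := by
      apply Groth.Agent.H71.IdealInv.idealSect_injective I₀
      rw [← h2, h0, map_zero]
    rw [hm, map_zero, quo_eq_zero_iff I₀ hW, ideal_eq_map ξ I₁ I₀ h₁ c] at h4
    obtain ⟨f, hf, e⟩ := (Ideal.mem_map_iff_of_surjective _ (aug_surjective ξ c.2)).mp h4
    exact ⟨f, hf, e.symm⟩
  · intro f₁ hf₁'
    obtain ⟨m, r, hrel⟩ := exists_trRel ξ I₁ I₀ φ t h₁ c f₁ hf₁'
    exact ⟨r, m, f₁, r, hrel⟩

end Groth.Agent.H61.Hilb
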