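import Mathlib
import Groth.Agent.H61.Hilb.TangentEquiv
import Groth.Agent.H61.Hilb.TangentFun
import Groth.Agent.H61.Hilb.TranslateSq
import Groth.Agent.H61.Hilb.MulBy
import Groth.Agent.H63.ArtFunctor

set_option linter.style.haveILetI false
set_option linter.unusedSectionVars false
set_option autoImplicit false

/-!
# The linear structure on the tangent space of the local Hilbert functor
-/

open AlgebraicGeometry CategoryTheory CategoryTheory.Limits Opposite TopologicalSpace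

namespace Groth.Agent.H61.Hilb

universe u

open ArtFun ArtFun.Art Groth.Agent.H61.AffThick Groth.Agent.H61.DefAlg Groth.Agent.H61.Aut
  IsLocalRing Groth.Agent.H61.Hilb.MulBy

section Tsze

variable {k : Type u} [Field k]

lemma tsze_mul_eq_zero {M : Type u} [AddCommGroup M] [Module k M] [Module kᵐᵒᵖ M]
    [IsCentralScalar k M] (a b : TrivSqZeroExt k M) (ha : a.fst = 0) (hb : b.fst = 0) :
    a * b = 0 := by
  apply TrivSqZeroExt.ext
  · rw [TrivSqZeroExt.fst_mul, ha, zero_mul]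
    rfl
  · rw [TrivSqZeroExt.snd_mul, ha, hb]
    simp

lemma sq_dual : maximalIdeal (Art.dual k k : Art k k) * maximalIdeal (Art.dual k k : Art k k) = ⊥ := by
  rw [eq_bot_iff, Ideal.mul_le]
  intro a ha b hb
  rw [Art.mem_maximalIdeal_iff] at ha hb
  rw [Ideal.mem_bot]
  exact tsze_mul_eq_zero (k := k) (M := k) a b ha hb

lemma sq_dual2 :
    maximalIdeal (Art.dual2 k k : Art k k) * maximalIdeal (Art.dual2 k k : Art k k) = ⊥ := by
  rw [eq_bot_iff, Ideal.mul_le]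
  intro a ha b hb
  rw [Art.mem_maximalIdeal_iff] at ha hb
  rw [Ideal.mem_bot]
  exact tsze_mul_eq_zero (k := k) (M := k × k) a b ha hb

/-- `ε₁` in `k[ε₁, ε₂]`. -/
def eps1 : (Art.dual2 k k : Art k k) := (TrivSqZeroExt.inr ((1 : k), (0 : k)) : TrivSqZeroExt k (k × k))

/-- `ε₂` in `k[ε₁, ε₂]`. -/
def eps2 : (Art.dual2 k k : Art k k) := (TrivSqZeroExt.inr ((0 : k), (1 : k)) : TrivSqZeroExt k (k × k))

lemma eps1_mem : eps1 (k := k) ∈ maximalIdeal (Art.dual2 k k : Art k k) := by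
  rw [Art.mem_maximalIdeal_iff]
  rfl

lemma eps2_mem : eps2 (k := k) ∈ maximalIdeal (Art.dual2 k k : Art k k) := by
  rw [Art.mem_maximalIdeal_iff]
  rfl

/-- the constant `c` in `k[ε]`. -/
def cD (c : k) : (Art.dual k k : Art k k) := (TrivSqZeroExt.inl c : DualNumber k)

lemma res_cD (c : k) : (Art.dual k k : Art k k).res (cD c) = c := rfl

lemma scale_epsD (c : k) : (scale (Λ := k) c) (epsD (Λ := k) (k := k)) = cD c * epsD := by
  apply TrivSqZeroExt.ext
  · change (0 : k) = c * 0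
    rw [mul_zero]
  · change c • (1 : k) = c • (1 : k) + MulOpposite.op (0 : k) • (0 : k)
    simp

lemma pr₁_eps1 : (pr₁ (Λ := k) (k := k)) eps1 = 1 * epsD := by
  rw [one_mul]
  rfl

lemma pr₁_eps2 : (pr₁ (Λ := k) (k := k)) eps2 = 0 * epsD := by
  rw [zero_mul]
  rfl

lemma pr₂_eps1 : (pr₂ (Λ := k) (k := k)) eps1 = 0 * epsD := by
  rw [zero_mul]
  rfl

lemma pr₂_eps2 : (pr₂ (Λ := k) (k := k)) eps2 = 1 * epsD := by
  rw [one_mul]
  rfl

lemma plus_eps1 : (plus (Λ := k) (k := k)) eps1 = 1 * epsD := by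
  rw [one_mul]
  apply TrivSqZeroExt.ext
  · rfl
  · change (1 : k) + 0 = 1
    rw [add_zero]

lemma plus_eps2 : (plus (Λ := k) (k := k)) eps2 = 1 * epsD := by
  rw [one_mul]
  apply TrivSqZeroExt.ext
  · rfl
  · change (0 : k) + 1 = 1
    rw [zero_add]

end Tsze

section Trans

variable {k : Type u} [Field k] {Y : Scheme.{u}} (y : Y ⟶ specPt k) (I₀ : Y.IdealSheafData)

attribute [local instance] algSec

lemma ofBase_comp {A A' : Art k k} (g : A ⟶ A') : ofBase A ≫ g = ofBase A' := by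
  apply Art.hom_ext
  apply AlgHom.ext
  intro c
  exact g.toAlgHom.commutes c

lemma map_trivAt {A A' : Art k k} (g : A ⟶ A') :
    (localHilb Y y I₀).map g (trivAt y I₀ A) = trivAt y I₀ A' := by
  unfold trivAt
  rw [← Groth.Agent.H63.map_comp_apply, ofBase_comp]

/-- the translate of a deformation over a base with `𝔪² = 0`. -/
noncomputable def transAt (A : Art k k) (hsq : maximalIdeal A * maximalIdeal A = ⊥)
    (t : A) (ht : t ∈ maximalIdeal A) (v : (localHilb Y y I₀).obj A)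
    (φ : ClSub.idealMod I₀ ⟶ ClSub.quotMod I₀) : (localHilb Y y I₀).obj A :=
  ⟨translate (xi y A) v.1 I₀ φ t v.2.2,
    flat_translate_sq (xi y A) v.1 I₀ φ t v.2.2 v.2.1 hsq ht,
    comap_translate (xi y A) v.1 I₀ φ t v.2.2 ht⟩

lemma transAt_zero (A : Art k k) (hsq : maximalIdeal A * maximalIdeal A = ⊥)
    (t : A) (ht : t ∈ maximalIdeal A) (v : (localHilb Y y I₀).obj A) :
    transAt y I₀ A hsq t ht v 0 = v := by
  apply Subtype.ext
  exact (eq_of_le (xi y A) v.1 (translate (xi y A) v.1 I₀ 0 t v.2.2) I₀ v.2.1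
    (transAt y I₀ A hsq t ht v 0).2.1 v.2.2 (transAt y I₀ A hsq t ht v 0).2.2
    (le_translate_zero (xi y A) v.1 I₀ t v.2.2)).symm

lemma thetaAt_eq_transAt (v : (localHilb Y y I₀).obj (dual k k))
    (φ : ClSub.idealMod I₀ ⟶ ClSub.quotMod I₀) :
    thetaAt y I₀ v φ = transAt y I₀ (dual k k) sq_dual epsD epsD_mem v φ :=
  Subtype.ext rfl

/-- **functoriality of translates.** -/
theorem map_transAt {A A' : Art k k} (g : A ⟶ A')
    (hsq : maximalIdeal A * maximalIdeal A = ⊥) (hsq' : maximalIdeal A' * maximalIdeal A' = ⊥)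
    (t : A) (ht : t ∈ maximalIdeal A) (t' b : A') (ht' : t' ∈ maximalIdeal A')
    (v : (localHilb Y y I₀).obj A) (v' : (localHilb Y y I₀).obj A')
    (φ φ' φ'' : ClSub.idealMod I₀ ⟶ ClSub.quotMod I₀)
    (hgt : g t = b * t')
    (hφ : ∀ (c : (xi y A).total.affineOpens)
      (m' : Γ(ClSub.idealMod I₀, (xi y A').i ⁻¹ᵁ (XAmap y g ⁻¹ᵁ c.1))),
      φ''.app ((xi y A').i ⁻¹ᵁ (XAmap y g ⁻¹ᵁ c.1)) m' =
        φ'.app ((xi y A').i ⁻¹ᵁ (XAmap y g ⁻¹ᵁ c.1)) m' +
        ((xi y A').i.app (XAmap y g ⁻¹ᵁ c.1)).hom (str (xi y A') (XAmap y g ⁻¹ᵁ c.1) b) •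
          φ.app ((xi y A').i ⁻¹ᵁ (XAmap y g ⁻¹ᵁ c.1)) m')
    (hv : (localHilb Y y I₀).map g v = transAt y I₀ A' hsq' t' ht' v' φ') :
    (localHilb Y y I₀).map g (transAt y I₀ A hsq t ht v φ) =
      transAt y I₀ A' hsq' t' ht' v' φ'' := by
  apply Subtype.ext
  refine eq_of_le (xi y A') _ _ I₀
    ((localHilb Y y I₀).map g (transAt y I₀ A hsq t ht v φ)).2.1
    (transAt y I₀ A' hsq' t' ht' v' φ'').2.1
    ((localHilb Y y I₀).map g (transAt y I₀ A hsq t ht v φ)).2.2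
    (transAt y I₀ A' hsq' t' ht' v' φ'').2.2 ?_
  refine comap_translate_le g (xi y A) (xi y A') (XAmap y g) (isPullback_XAmap y g)
    (XAincl_XAmap y g) v.1 v'.1 I₀ φ φ' φ'' t t' b v.2.2 v'.2.2 hgt ht' hφ ?_
  exact le_of_eq (congrArg Subtype.val hv)

end Trans

section Scalars

variable {k : Type u} [Field k] {Y : Scheme.{u}} {y : Y ⟶ specPt k} (I₀ : Y.IdealSheafData)
  {A' : Art k k} (ξ' : DefSch Y y A')

lemma aug_str_one_smul (U : ξ'.total.Opens) (n : Γ(ClSub.quotMod I₀, ξ'.i ⁻¹ᵁ U)) :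
    (ξ'.i.app U).hom (str ξ' U 1) • n = n := by
  rw [map_one, map_one, one_smul]

lemma aug_str_zero_smul (U : ξ'.total.Opens) (n : Γ(ClSub.quotMod I₀, ξ'.i ⁻¹ᵁ U)) :
    (ξ'.i.app U).hom (str ξ' U 0) • n = 0 := by
  rw [map_zero, map_zero, zero_smul]

lemma aug_str_smul (U : ξ'.total.Opens) (b : A') (n : Γ(ClSub.quotMod I₀, ξ'.i ⁻¹ᵁ U)) :
    (ξ'.i.app U).hom (str ξ' U b) • n =
      (mulBy (ClSub.quotMod I₀) (Coh.toGlobal y (A'.res b))).app (ξ'.i ⁻¹ᵁ U) n := by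
  rw [aug_str, mulBy_app]
  rfl

end Scalars

section Assemble

variable {k : Type u} [Field k] {Y : Scheme.{u}} (y : Y ⟶ specPt k) (I₀ : Y.IdealSheafData)

/-- the bijection `Hom(I₀, O/I₀) → F(k[ε])`, as a function. -/
noncomputable abbrev Theta (φ : ClSub.idealMod I₀ ⟶ ClSub.quotMod I₀) :
    (localHilb Y y I₀).obj (dual k k) :=
  transAt y I₀ (dual k k) sq_dual epsD epsD_mem (trivAt y I₀ (dual k k)) φ

lemma thetaEquiv_apply (φ : ClSub.idealMod I₀ ⟶ ClSub.quotMod I₀) :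
    thetaEquiv y I₀ φ = Theta y I₀ φ :=
  thetaAt_eq_transAt y I₀ _ φ

/-- **scalar multiplication on the tangent space corresponds to multiplication on `Hom`.** -/
theorem map_scale_Theta (c : k) (φ : ClSub.idealMod I₀ ⟶ ClSub.quotMod I₀) :
    (localHilb Y y I₀).map (scale c) (Theta y I₀ φ) =
      Theta y I₀ (φ ≫ mulBy (ClSub.quotMod I₀) (Coh.toGlobal y c)) := by
  refine map_transAt y I₀ (scale c) sq_dual sq_dual epsD epsD_mem epsD (cD c) epsD_mem
    (trivAt y I₀ (dual k k)) (trivAt y I₀ (dual k k)) φ 0 _ (scale_epsD c) ?_ ?_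
  · intro c' m'
    rw [aug_str_smul]
    change _ = 0 + _
    rw [zero_add]
    rfl
  · rw [map_trivAt, transAt_zero]

/-- the element of `F(k[ε₁, ε₂])` with projections `Θ φ` and `Θ ψ`. -/
noncomputable def pairAt (φ ψ : ClSub.idealMod I₀ ⟶ ClSub.quotMod I₀) :
    (localHilb Y y I₀).obj (dual2 k k) :=
  transAt y I₀ (dual2 k k) sq_dual2 eps2 eps2_mem
    (transAt y I₀ (dual2 k k) sq_dual2 eps1 eps1_mem (trivAt y I₀ (dual2 k k)) φ) ψ

theorem map_pr₁_pairAt (φ ψ : ClSub.idealMod I₀ ⟶ ClSub.quotMod I₀) :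
    (localHilb Y y I₀).map pr₁ (pairAt y I₀ φ ψ) = Theta y I₀ φ := by
  refine map_transAt y I₀ pr₁ sq_dual2 sq_dual eps2 eps2_mem epsD 0 epsD_mem
    _ (trivAt y I₀ (dual k k)) ψ φ φ pr₁_eps2 ?_ ?_
  · intro c' m'
    rw [aug_str_zero_smul, add_zero]
  · refine map_transAt y I₀ pr₁ sq_dual2 sq_dual eps1 eps1_mem epsD 1 epsD_mem
      (trivAt y I₀ (dual2 k k)) (trivAt y I₀ (dual k k)) φ 0 φ pr₁_eps1 ?_ ?_
    · intro c' m'
      rw [aug_str_one_smul]
      change _ = 0 + _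
      rw [zero_add]
    · rw [map_trivAt, transAt_zero]

theorem map_pr₂_pairAt (φ ψ : ClSub.idealMod I₀ ⟶ ClSub.quotMod I₀) :
    (localHilb Y y I₀).map pr₂ (pairAt y I₀ φ ψ) = Theta y I₀ ψ := by
  refine map_transAt y I₀ pr₂ sq_dual2 sq_dual eps2 eps2_mem epsD 1 epsD_mem
    _ (trivAt y I₀ (dual k k)) ψ 0 ψ pr₂_eps2 ?_ ?_
  · intro c' m'
    rw [aug_str_one_smul]
    change _ = 0 + _
    rw [zero_add]
  · refine map_transAt y I₀ pr₂ sq_dual2 sq_dual eps1 eps1_mem epsD 0 epsD_mem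
      (trivAt y I₀ (dual2 k k)) (trivAt y I₀ (dual k k)) φ 0 0 pr₂_eps1 ?_ ?_
    · intro c' m'
      rw [aug_str_zero_smul, add_zero]
    · rw [map_trivAt, transAt_zero]

theorem map_plus_pairAt (φ ψ : ClSub.idealMod I₀ ⟶ ClSub.quotMod I₀) :
    (localHilb Y y I₀).map plus (pairAt y I₀ φ ψ) = Theta y I₀ (φ + ψ) := by
  refine map_transAt y I₀ plus sq_dual2 sq_dual eps2 eps2_mem epsD 1 epsD_mem
    _ (trivAt y I₀ (dual k k)) ψ φ (φ + ψ) plus_eps2 ?_ ?_
  · intro c' m'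
    rw [aug_str_one_smul]
    rfl
  · refine map_transAt y I₀ plus sq_dual2 sq_dual eps1 eps1_mem epsD 1 epsD_mem
      (trivAt y I₀ (dual2 k k)) (trivAt y I₀ (dual k k)) φ 0 φ plus_eps1 ?_ ?_
    · intro c' m'
      rw [aug_str_one_smul]
      change _ = 0 + _
      rw [zero_add]
    · rw [map_trivAt, transAt_zero]

/-- `Θ` is additive for any tangent structure. -/
theorem Theta_add [T : TangentStr (localHilb Y y I₀)]
    (φ ψ : ClSub.idealMod I₀ ⟶ ClSub.quotMod I₀) :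
    TangentSpace.mk (F := localHilb Y y I₀) (Theta y I₀ (φ + ψ)) =
      TangentSpace.mk (F := localHilb Y y I₀) (Theta y I₀ φ) +
        TangentSpace.mk (F := localHilb Y y I₀) (Theta y I₀ ψ) := by
  have h := T.add_eq (pairAt y I₀ φ ψ)
  rw [map_pr₁_pairAt, map_pr₂_pairAt, map_plus_pairAt] at h
  exact h.symm

/-- `Θ` is compatible with scalar multiplication for any tangent structure. -/
theorem Theta_smul [T : TangentStr (localHilb Y y I₀)] (c : k)
    (φ : ClSub.idealMod I₀ ⟶ ClSub.quotMod I₀) :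
    TangentSpace.mk (F := localHilb Y y I₀)
        (Theta y I₀ (φ ≫ mulBy (ClSub.quotMod I₀) (Coh.toGlobal y c))) =
      c • TangentSpace.mk (F := localHilb Y y I₀) (Theta y I₀ φ) := by
  have h := T.smul_eq c (Theta y I₀ φ)
  rw [map_scale_Theta] at h
  exact h.symm

end Assemble

end Groth.Agent.H61.Hilb
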