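import Mathlib
import Groth.Agent.H61.Hilb.TangentLin
import Groth.Agent.H61.Hilb.NormalLin

set_option linter.style.haveILetI false
set_option linter.unusedSectionVars false
set_option autoImplicit false

/-!
# `H⁰(Z, N_{Z/X}) ≃ₗ[k] T(localHilb X x I_Z)` for a closed immersion `Z ⟶ X`
-/

open AlgebraicGeometry CategoryTheory CategoryTheory.Limits Opposite TopologicalSpace

attribute [local instance] HasDerivedCategory.standard

namespace Groth.Agent.H61.Hilb

universe u

open ArtFun ArtFun.Art Groth.Agent.H61.Hilb.MulBy Groth.Agent.H61.Hilb.NormalHom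

variable {k : Type u} [Field k] {X Z : Scheme.{u}} (x : X ⟶ Spec (CommRingCat.of k))
  (i : Z ⟶ X) [IsClosedImmersion i] [Z.Over (Spec (CommRingCat.of k))]
  (hZ : Z ↘ Spec (CommRingCat.of k) = i ≫ x) [DCoh.HasSheafHom (Omega.conormal i)]
  [T : TangentStr (localHilb X x i.ker)]

include hZ in
/-- **`H⁰(Z, N_{Z/X}) ≃ₗ[k] T(localHilb X x I_Z)`.** -/
theorem nonempty_tangentLinearEquiv :
    Nonempty (Coh.HH Z ((DCoh.sheafHom (Omega.conormal i)).obj (Coh.structureModule Z)) 0 ≃ₗ[k]
      TangentSpace (localHilb X x i.ker)) := by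
  refine ⟨{
    toFun := fun h => TangentSpace.mk (F := localHilb X x i.ker)
      (thetaEquiv x i.ker (normalEquiv i h))
    map_add' := ?_
    map_smul' := ?_
    invFun := fun v => (normalEquiv i).symm ((thetaEquiv x i.ker).symm v)
    left_inv := ?_
    right_inv := ?_ }⟩
  · intro h h'
    rw [normalEquiv_add, thetaEquiv_apply, thetaEquiv_apply, thetaEquiv_apply]
    exact Theta_add x i.ker _ _
  · intro a h
    rw [normalEquiv_smul x i hZ, thetaEquiv_apply, thetaEquiv_apply]
    exact Theta_smul x i.ker a _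
  · intro h
    change (normalEquiv i).symm ((thetaEquiv x i.ker).symm (thetaEquiv x i.ker (normalEquiv i h)))
      = h
    rw [Equiv.symm_apply_apply, Equiv.symm_apply_apply]
  · intro v
    change thetaEquiv x i.ker (normalEquiv i ((normalEquiv i).symm ((thetaEquiv x i.ker).symm v)))
      = v
    rw [Equiv.apply_symm_apply, Equiv.apply_symm_apply]

end Groth.Agent.H61.Hilb
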